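import Mathlib

/-!
# Abstract lemmas on preservation of colimits (lead)

* `preservesColimit_of_jointly`: preservation can be tested after a jointly conservative family of
  functors;
* `preservesColimit_of_retract_sum`: a functor which is a "retract of a finite sum" of functors
  preserving a colimit preserves it;
* `preservesColimit_of_kernel`: in an abelian category with exact colimits of shape `Λ`, a pointwise
  kernel of a natural transformation between functors preserving a colimit of shape `Λ` preserves it.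
-/

set_option autoImplicit false

open CategoryTheory Limits

namespace Groth.Agent.LD.HomFilt

section Joint

variable {A : Type*} [Category A] {B : Type*} [Category B] {Λ : Type*} [Category Λ]

/-- preservation of a colimit can be tested after a jointly conservative family of functors which
preserve the relevant colimit. -/
theorem preservesColimit_of_jointly {ι : Type*} {E : ι → Type*} [∀ i, Category (E i)]
    (R : ∀ i, B ⥤ E i) (hR : ∀ {X Y : B} (f : X ⟶ Y), (∀ i, IsIso ((R i).map f)) → IsIso f)
    (D : Λ ⥤ A) (H : A ⥤ B) [HasColimitsOfShape Λ B]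
    [∀ i, PreservesColimit (D ⋙ H) (R i)] [∀ i, PreservesColimit D (H ⋙ R i)] :
    PreservesColimit D H := by
  refine ⟨fun {c} hc => ⟨?_⟩⟩
  haveI : IsIso ((colimit.isColimit (D ⋙ H)).desc (H.mapCocone c)) := by
    apply hR
    intro i
    have h1 : IsColimit ((R i).mapCocone (colimit.cocone (D ⋙ H))) :=
      isColimitOfPreserves (R i) (colimit.isColimit _)
    have h2 : IsColimit ((H ⋙ R i).mapCocone c) := isColimitOfPreserves (H ⋙ R i) hc
    have e : (R i).map ((colimit.isColimit (D ⋙ H)).desc (H.mapCocone c)) =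
        (h1.coconePointUniqueUpToIso h2).hom := by
      apply h1.hom_ext
      intro j
      rw [IsColimit.comp_coconePointUniqueUpToIso_hom]
      change (R i).map (colimit.ι (D ⋙ H) j) ≫ (R i).map _ = (R i).map (H.map (c.ι.app j))
      rw [← Functor.map_comp]
      congr 1
      exact (colimit.isColimit (D ⋙ H)).fac (H.mapCocone c) j
    rw [e]
    infer_instance
  exact IsColimit.ofPointIso (colimit.isColimit (D ⋙ H))

end Joint

section Retract

variable {A : Type*} [Category A] {B : Type*} [Category B] {Λ : Type*} [Category Λ]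

/-- the cocone over `D ⋙ G'` induced from a cocone over `D ⋙ G` by `q : G' ⟶ G`. -/
def sc (D : Λ ⥤ A) {G G' : A ⥤ B} (q : G' ⟶ G) (s : Cocone (D ⋙ G)) : Cocone (D ⋙ G') where
  pt := s.pt
  ι :=
    { app := fun j => q.app (D.obj j) ≫ s.ι.app j
      naturality := fun j j' f => by
        have e1 : G'.map (D.map f) ≫ q.app (D.obj j') = q.app (D.obj j) ≫ G.map (D.map f) :=
          q.naturality (D.map f)
        have e2 : G.map (D.map f) ≫ s.ι.app j' = s.ι.app j := s.w f
        change G'.map (D.map f) ≫ q.app (D.obj j') ≫ s.ι.app j' =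
          (q.app (D.obj j) ≫ s.ι.app j) ≫ 𝟙 _
        rw [Category.comp_id, ← Category.assoc, e1, Category.assoc, e2] }

/-- a functor which is a retract of a finite sum of functors preserving a colimit preserves it. -/
theorem preservesColimit_of_retract_sum [Preadditive B] (D : Λ ⥤ A) {ι : Type*} [Fintype ι]
    (G : A ⥤ B) (Gi : ι → (A ⥤ B)) (p : ∀ i, G ⟶ Gi i) (q : ∀ i, Gi i ⟶ G)
    (hpq : ∑ i, p i ≫ q i = 𝟙 G) [∀ i, PreservesColimit D (Gi i)] : PreservesColimit D G := by
  refine ⟨fun {c} hc => ⟨?_⟩⟩
  have hi : ∀ i, IsColimit ((Gi i).mapCocone c) := fun i => isColimitOfPreserves (Gi i) hc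
  have hpt : ∀ X : A, ∑ i, (p i).app X ≫ (q i).app X = 𝟙 (G.obj X) := by
    intro X
    have h := congrArg (fun α : G ⟶ G => α.app X) hpq
    simp only [NatTrans.app_sum, NatTrans.comp_app, NatTrans.id_app] at h
    exact h
  have hdesc : ∀ (s : Cocone (D ⋙ G)) (i : ι), ∃ d : (Gi i).obj c.pt ⟶ s.pt,
      (∀ j, (Gi i).map (c.ι.app j) ≫ d = (q i).app (D.obj j) ≫ s.ι.app j) ∧
      ∀ d' : (Gi i).obj c.pt ⟶ s.pt,
        (∀ j, (Gi i).map (c.ι.app j) ≫ d' = (q i).app (D.obj j) ≫ s.ι.app j) → d' = d := by
    intro s i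
    refine ⟨(hi i).desc (sc D (q i) s), fun j => (hi i).fac (sc D (q i) s) j, fun d' hd' => ?_⟩
    exact (hi i).uniq (sc D (q i) s) d' hd'
  choose d hd1 hd2 using hdesc
  exact
    { desc := fun s => ∑ i, (p i).app c.pt ≫ d s i
      fac := fun s j => by
        change G.map (c.ι.app j) ≫ ∑ i, (p i).app c.pt ≫ d s i = s.ι.app j
        rw [Preadditive.comp_sum]
        have key : ∀ i, G.map (c.ι.app j) ≫ (p i).app c.pt ≫ d s i =
            ((p i).app (D.obj j) ≫ (q i).app (D.obj j)) ≫ s.ι.app j := by
          intro i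
          have e2 : G.map (c.ι.app j) ≫ (p i).app c.pt =
              (p i).app (D.obj j) ≫ (Gi i).map (c.ι.app j) := (p i).naturality (c.ι.app j)
          rw [← Category.assoc, e2, Category.assoc, hd1 s i j, Category.assoc]
        rw [Finset.sum_congr rfl (fun i _ => key i), ← Preadditive.sum_comp, hpt, Category.id_comp]
      uniq := fun s m hm => by
        have hm' : ∀ j, G.map (c.ι.app j) ≫ m = s.ι.app j := hm
        have key : ∀ i, (q i).app c.pt ≫ m = d s i := by
          intro i
          apply hd2 s i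
          intro j
          have e2 : (Gi i).map (c.ι.app j) ≫ (q i).app c.pt =
              (q i).app (D.obj j) ≫ G.map (c.ι.app j) := (q i).naturality (c.ι.app j)
          rw [← Category.assoc, e2, Category.assoc, hm' j]
        calc m = (∑ i, (p i).app c.pt ≫ (q i).app c.pt) ≫ m := by rw [hpt, Category.id_comp]
          _ = ∑ i, (p i).app c.pt ≫ d s i := by
            rw [Preadditive.sum_comp]
            refine Finset.sum_congr rfl (fun i _ => ?_)
            rw [Category.assoc, key i] }

end Retract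

section Kernel

variable {B : Type*} [Category B] {A : Type*} [Category A] [Abelian A] {Λ : Type*} [Category Λ]
  {K H₁ H₂ : B ⥤ A} (ι : K ⟶ H₁) (η : H₁ ⟶ H₂) (w : ∀ X, ι.app X ≫ η.app X = 0)

/-- the short complex of functors `D ⋙ K ⟶ D ⋙ H₁ ⟶ D ⋙ H₂`. -/
def kerSC (D : Λ ⥤ B) : ShortComplex (Λ ⥤ A) :=
  ShortComplex.mk (Functor.whiskerLeft D ι) (Functor.whiskerLeft D η) (by
    ext j
    exact w (D.obj j))

variable [HasColimitsOfShape Λ A] [HasExactColimitsOfShape Λ A]

/-- a pointwise kernel of a natural transformation between functors preserving a colimit of a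
shape along which colimits are exact preserves this colimit. -/
theorem preservesColimit_of_kernel
    (hK : ∀ X, IsLimit (KernelFork.ofι (ι.app X) (w X)))
    (D : Λ ⥤ B) [PreservesColimit D H₁] [PreservesColimit D H₂] : PreservesColimit D K := by
  refine ⟨fun {c} hc => ?_⟩
  haveI : ∀ X, Mono (ι.app X) := fun X => mono_of_isLimit_fork (hK X)
  have hS : (kerSC ι η w D).Exact := by
    apply ShortComplex.exact_of_f_is_kernel
    refine evaluationJointlyReflectsLimits _ (fun j => ?_)
    refine (KernelFork.isLimitMapConeEquiv _ _).symm ?_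
    exact hK (D.obj j)
  haveI : ∀ j, Mono ((kerSC ι η w D).f.app j) := fun j =>
    (inferInstance : Mono (ι.app (D.obj j)))
  haveI : Mono (kerSC ι η w D).f := NatTrans.mono_of_mono_app _
  have hc₂ : IsColimit (H₁.mapCocone c) := isColimitOfPreserves H₁ hc
  have hc₃ : IsColimit (H₂.mapCocone c) := isColimitOfPreserves H₂ hc
  obtain ⟨f, hf⟩ : ∃ f : colimit (D ⋙ K) ⟶ H₁.obj c.pt,
      ∀ j, colimit.ι (D ⋙ K) j ≫ f = ι.app (D.obj j) ≫ H₁.map (c.ι.app j) :=
    ⟨colimit.desc (D ⋙ K) (sc D ι (H₁.mapCocone c)),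
      fun j => colimit.ι_desc _ j⟩
  have hg : ∀ j, H₁.map (c.ι.app j) ≫ η.app c.pt = η.app (D.obj j) ≫ H₂.map (c.ι.app j) :=
    fun j => η.naturality (c.ι.app j)
  have hE := colim.exact_mapShortComplex (S := kerSC ι η w D) hS
    (c₁ := colimit.cocone (D ⋙ K)) (colimit.isColimit (D ⋙ K))
    (c₂ := H₁.mapCocone c) hc₂ (c₃ := H₂.mapCocone c) hc₃ f (η.app c.pt) hf hg
  haveI hmono : Mono f := colim.map_mono' (kerSC ι η w D).f (colimit.isColimit (D ⋙ K)) hc₂ f hf
  haveI : Mono (colim.mapShortComplex (kerSC ι η w D) (colimit.isColimit (D ⋙ K))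
      (H₁.mapCocone c) (H₂.mapCocone c) f (η.app c.pt) hf hg).f := hmono
  have hker := hE.fIsKernel
  let e : colimit (D ⋙ K) ≅ K.obj c.pt := IsLimit.conePointUniqueUpToIso hker (hK c.pt)
  have he : e.hom ≫ ι.app c.pt = f :=
    IsLimit.conePointUniqueUpToIso_hom_comp hker (hK c.pt) WalkingParallelPair.zero
  refine ⟨IsColimit.ofIsoColimit (colimit.isColimit (D ⋙ K)) (Cocone.ext e (fun j => ?_))⟩
  change colimit.ι (D ⋙ K) j ≫ e.hom = K.map (c.ι.app j)
  rw [← cancel_mono (ι.app c.pt), Category.assoc, he, hf j]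
  exact (ι.naturality (c.ι.app j)).symm

end Kernel

end Groth.Agent.LD.HomFilt
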