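import Groth.Agent.Lib.Lead.HomFilt.Contra
import Groth.Agent.Lib.Lead.RSp.LocBasis

/-!
# The internal hom out of a finitely presented module commutes with filtered colimits (lead)
-/

set_option autoImplicit false
universe u

open CategoryTheory Limits Opposite

namespace Groth.Agent.LD.HomFilt

open Groth.Agent.LD.MS Groth.Agent.LD.RSp

variable {C : Type u} [SmallCategory C] {J : GrothendieckTopology C}

section Gen

variable {R : Sheaf J RingCat.{u}}

/-- a morphism of sheaves of modules which is injective on sections is a monomorphism. -/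
theorem mono_of_injective {M N : SheafOfModules.{u} R} (φ : M ⟶ N)
    (h : ∀ W : C, Function.Injective (φ.val.app (op W))) : Mono φ := by
  have h0 : ∀ V : Cᵒᵖ, Function.Injective (((SheafOfModules.toSheaf R).map φ).hom.app V) :=
    fun V => h V.unop
  haveI : ∀ V, Mono (((SheafOfModules.toSheaf R).map φ).hom.app V) := fun V =>
    ConcreteCategory.mono_of_injective _ (h0 V)
  haveI : Mono ((SheafOfModules.toSheaf R).map φ).hom := NatTrans.mono_of_mono_app _
  haveI : Mono ((SheafOfModules.toSheaf R).map φ) := Sheaf.Hom.mono_of_presheaf_mono _ _ _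
  exact (SheafOfModules.toSheaf R).mono_of_mono_map this

end Gen

variable (O : Sheaf J CommRingCat.{u})

/-- restrictions to the members of a family covering the terminal object jointly reflect
isomorphisms. -/
theorem isIso_of_isIso_restr {ι : Type*} (X : ι → C) (hX : J.CoversTop X) {A B : ModSite.Mod O}
    (f : A ⟶ B) (h : ∀ i, IsIso ((ModSite.restr O (X i)).map f)) : IsIso f := by
  have hbij : ∀ (i : ι) (Z : C) (_ : Z ⟶ X i), Function.Bijective (f.val.app (op Z)) := by
    intro i Z p
    haveI := h i
    exact ConcreteCategory.bijective_of_isIso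
      ((SheafOfModules.evaluation (ModSite.ringSh (O.over (X i))) (op (Over.mk p))).map
        ((ModSite.restr O (X i)).map f))
  haveI : Mono f := by
    apply mono_of_injective
    intro Y s s' hss
    apply eq_of_eqSieve_mem A s s'
    refine J.superset_covering ?_ (hX Y)
    intro Z g hg
    obtain ⟨i, ⟨p⟩⟩ := (Sieve.mem_ofObjects_iff X g).mp hg
    change rs A g s = rs A g s'
    apply (hbij i Z p).1
    rw [app_rs, app_rs, hss]
  haveI : Epi f := by
    apply epi_of_exists_sieve
    intro Y t
    refine ⟨Sieve.ofObjects X Y, hX Y, fun Z g hg => ?_⟩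
    obtain ⟨i, ⟨p⟩⟩ := (Sieve.mem_ofObjects_iff X g).mp hg
    exact (hbij i Z p).2 (rs B g t)
  exact isIso_of_mono_of_epi f

attribute [local instance] instHSH

/-- **S9096**: on a small ringed site the internal hom out of a module of finite presentation
commutes with filtered colimits. -/
theorem preservesColimit_sheafHom_of_fp (F : ModSite.Mod O)
    [SheafOfModules.IsFinitePresentation (R := ModSite.ringSh O) F]
    {Λ : Type u} [SmallCategory Λ] [IsFiltered Λ] (D : Λ ⥤ ModSite.Mod O) :
    PreservesColimit D (ModSite.sheafHom F) := by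
  obtain ⟨σ, hσ⟩ :=
    SheafOfModules.IsFinitePresentation.exists_quasicoherentData (R := ModSite.ringSh O) F
  haveI := Groth.Agent.H1.sheafOfModules_isGrothendieckAbelian J (ModSite.ringSh O)
  -- restriction preserves colimits
  have hres : ∀ (X : C) {Λ' : Type u} [SmallCategory Λ'] (D' : Λ' ⥤ ModSite.Mod O),
      PreservesColimit D' (ModSite.restr O X) := by
    intro X Λ' _ D'
    haveI : (ModSite.restr O X).IsLeftAdjoint :=
      Groth.Agent.LD.EZ.overFunctor_isLeftAdjoint (ModSite.ringSh O) X
    haveI : PreservesColimitsOfSize.{u, u} (ModSite.restr O X) :=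
      (Adjunction.ofIsLeftAdjoint (ModSite.restr O X)).leftAdjoint_preservesColimits
    infer_instance
  haveI : ∀ i : σ.I, PreservesColimit (D ⋙ ModSite.sheafHom F) (ModSite.restr O (σ.X i)) :=
    fun i => hres (σ.X i) _
  haveI : ∀ i : σ.I, PreservesColimit D (ModSite.sheafHom F ⋙ ModSite.restr O (σ.X i)) := by
    intro i
    haveI := hres (σ.X i) D
    haveI := hσ.isFinite_presentation i
    haveI : Finite (σ.presentation i).generators.I :=
      SheafOfModules.GeneratingSections.IsFiniteType.finite
    haveI : Finite (σ.presentation i).relations.I :=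
      SheafOfModules.GeneratingSections.IsFiniteType.finite
    have hp : PresBy (σ.presentation i).relations.I (σ.presentation i).generators.I
        ((ModSite.restr O (σ.X i)).obj F) := PresBy.of_presentation (σ.presentation i)
    haveI : PreservesColimit (D ⋙ ModSite.restr O (σ.X i))
        (ModSite.sheafHom ((ModSite.restr O (σ.X i)).obj F)) :=
      preservesColimit_sheafHom_of_presBy (O.over (σ.X i)) hp (D ⋙ ModSite.restr O (σ.X i))
    haveI : PreservesColimit D (ModSite.restr O (σ.X i) ⋙
        ModSite.sheafHom ((ModSite.restr O (σ.X i)).obj F)) := inferInstance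
    exact preservesColimit_of_natIso D (Groth.Agent.LD.EZ.sheafHomRestrIso O (σ.X i) F).symm
  exact preservesColimit_of_jointly (fun i : σ.I => ModSite.restr O (σ.X i))
    (fun f hf => isIso_of_isIso_restr O σ.X σ.coversTop f hf) D (ModSite.sheafHom F)

end Groth.Agent.LD.HomFilt
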