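import Groth.Agent.Lib.Lead.HomFilt.Abstract
import Groth.Agent.Lib.Lead.EZ.HomLoc
import Groth.Agent.Lib.Lead.MS.TensPres
import Groth.Agent.Lib.Lead.RSp.Free

/-!
# Contravariant functoriality of the internal hom on a ringed site, and filtered colimits (lead)

`Hmap a : sheafHom N' ⟶ sheafHom N` for `a : N ⟶ N'`; it turns cokernels into pointwise kernels;
`sheafHom` of a finite free module, hence of a finitely presented (globally) module, commutes with
filtered colimits.
-/

set_option autoImplicit false
universe u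

open CategoryTheory Limits Opposite

namespace Groth.Agent.LD.HomFilt

open Groth.Agent.LD.MS

variable {C : Type u} [SmallCategory C] {J : GrothendieckTopology C} (O : Sheaf J CommRingCat.{u})

/-- every module on a small ringed site has an internal hom (from `MS.hasSheafHom`). -/
theorem instHSH (N : ModSite.Mod O) : ModSite.HasSheafHom N := hasSheafHom N

attribute [local instance] instHSH

/-- the internal hom functor is additive. -/
theorem sheafHom_additive' (N : ModSite.Mod O) : (ModSite.sheafHom N).Additive :=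
  (ModSite.sheafHomAdj N).right_adjoint_additive

attribute [local instance] sheafHom_additive'

/-- contravariant functoriality of the internal hom. -/
noncomputable def Hmap {N N' : ModSite.Mod O} (a : N ⟶ N') :
    ModSite.sheafHom N' ⟶ ModSite.sheafHom N :=
  conjugateEquiv (ModSite.sheafHomAdj N') (ModSite.sheafHomAdj N) ((ModSite.tensorBi O).flip.map a)

lemma Hmap_id (N : ModSite.Mod O) : Hmap O (𝟙 N) = 𝟙 _ := by
  unfold Hmap
  rw [CategoryTheory.Functor.map_id]
  exact conjugateEquiv_id _

lemma Hmap_comp {N N' N'' : ModSite.Mod O} (a : N ⟶ N') (b : N' ⟶ N'') :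
    Hmap O (a ≫ b) = Hmap O b ≫ Hmap O a := by
  unfold Hmap
  rw [CategoryTheory.Functor.map_comp]
  exact (conjugateEquiv_comp _ _ _ _ _).symm

lemma Hmap_sum {N N' : ModSite.Mod O} {ι : Type*} (s : Finset ι) (a : ι → (N ⟶ N')) :
    Hmap O (∑ i ∈ s, a i) = ∑ i ∈ s, Hmap O (a i) := by
  ext G
  rw [NatTrans.app_sum]
  simp only [Hmap, conjugateEquiv_apply_app, Functor.flip_map_app, Functor.map_sum,
    Preadditive.sum_comp, Preadditive.comp_sum]

lemma Hmap_zero {N N' : ModSite.Mod O} : Hmap O (0 : N ⟶ N') = 0 := by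
  simpa using Hmap_sum O (∅ : Finset Unit) (fun _ => (0 : N ⟶ N'))

/-- the transpose of a composite with `Hmap`. -/
lemma homEquiv_symm_comp_Hmap {N N' : ModSite.Mod O} (a : N ⟶ N') {X G : ModSite.Mod O}
    (ψ : X ⟶ (ModSite.sheafHom N').obj G) :
    ((ModSite.sheafHomAdj N).homEquiv X G).symm (ψ ≫ (Hmap O a).app G) =
      tnR X a ≫ ((ModSite.sheafHomAdj N').homEquiv X G).symm ψ := by
  have e1 := conjugateEquiv_counit (ModSite.sheafHomAdj N') (ModSite.sheafHomAdj N)
    ((ModSite.tensorBi O).flip.map a) G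
  have e2 : ((ModSite.tensorBi O).flip.obj N).map ψ ≫
      ((ModSite.tensorBi O).flip.map a).app ((ModSite.sheafHom N').obj G) =
      ((ModSite.tensorBi O).flip.map a).app X ≫ ((ModSite.tensorBi O).flip.obj N').map ψ :=
    ((ModSite.tensorBi O).flip.map a).naturality ψ
  rw [Adjunction.homEquiv_counit, Adjunction.homEquiv_counit, CategoryTheory.Functor.map_comp,
    Category.assoc]
  have e1' : ((ModSite.tensorBi O).flip.obj N).map ((Hmap O a).app G) ≫
      (ModSite.sheafHomAdj N).counit.app G =
      ((ModSite.tensorBi O).flip.map a).app ((ModSite.sheafHom N').obj G) ≫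
        (ModSite.sheafHomAdj N').counit.app G := e1
  rw [e1', ← Category.assoc, e2, Category.assoc]
  rfl

lemma homEquiv_symm_zero (N X G : ModSite.Mod O) :
    ((ModSite.sheafHomAdj N).homEquiv X G).symm 0 = 0 := by
  rw [Adjunction.homEquiv_counit, Functor.map_zero, zero_comp]

section Cok

variable {O}
variable {N' N N'' : ModSite.Mod O} {f : N' ⟶ N} {g : N ⟶ N''}

lemma Hmap_w (h : IsCok f g) (G : ModSite.Mod O) :
    (Hmap O g).app G ≫ (Hmap O f).app G = 0 := by
  rw [← NatTrans.comp_app, ← Hmap_comp, h.1, Hmap_zero]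
  rfl

/-- the internal hom turns cokernels into kernels: universal property. -/
theorem existsUnique_lift (h : IsCok f g) (G : ModSite.Mod O) {W : ModSite.Mod O}
    (φ : W ⟶ (ModSite.sheafHom N).obj G) (hφ : φ ≫ (Hmap O f).app G = 0) :
    ∃! ψ : W ⟶ (ModSite.sheafHom N'').obj G, ψ ≫ (Hmap O g).app G = φ := by
  have hc : IsCok (tnR W f) (tnR W g) := isCok_tnR W h
  have h0 : tnR W f ≫ ((ModSite.sheafHomAdj N).homEquiv W G).symm φ = 0 := by
    have e := homEquiv_symm_comp_Hmap O f φ
    rw [hφ, homEquiv_symm_zero] at e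
    exact e.symm
  obtain ⟨l, hl, hu⟩ := hc.2 _ h0
  have hl' : tnR W g ≫ l = ((ModSite.sheafHomAdj N).homEquiv W G).symm φ := hl
  refine ⟨(ModSite.sheafHomAdj N'').homEquiv W G l, ?_, ?_⟩
  · apply ((ModSite.sheafHomAdj N).homEquiv W G).symm.injective
    rw [homEquiv_symm_comp_Hmap, Equiv.symm_apply_apply]
    exact hl'
  · intro ψ hψ
    have hψ' : ψ ≫ (Hmap O g).app G = φ := hψ
    have e : ((ModSite.sheafHomAdj N'').homEquiv W G).symm ψ = l := by
      apply hu
      have e' := homEquiv_symm_comp_Hmap O g ψ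
      rw [hψ'] at e'
      exact e'.symm
    rw [← e, Equiv.apply_symm_apply]

/-- the internal hom turns cokernels into pointwise kernels. -/
noncomputable def isLimitHmap (h : IsCok f g) (G : ModSite.Mod O) :
    IsLimit (KernelFork.ofι ((Hmap O g).app G) (Hmap_w h G)) :=
  KernelFork.IsLimit.ofι _ _ (fun φ hφ => (existsUnique_lift h G φ hφ).choose)
    (fun φ hφ => (existsUnique_lift h G φ hφ).choose_spec.1)
    (fun φ hφ m hm => (existsUnique_lift h G φ hφ).choose_spec.2 m hm)

end Cok

section Pres

variable {Λ : Type*} [Category Λ] (D : Λ ⥤ ModSite.Mod O)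

/-- `Hom(O, -)` is the identity. -/
theorem preservesColimit_sheafHom_unit : PreservesColimit D (ModSite.sheafHom (ModSite.unit O)) := by
  have e : ModSite.sheafHom (ModSite.unit O) ≅ 𝟭 _ :=
    (ModSite.sheafHomAdj (ModSite.unit O)).rightAdjointUniq
      ((Adjunction.id).ofNatIsoLeft (Groth.Agent.LD.EZ.flipUnitIso O).symm)
  exact preservesColimit_of_natIso D e.symm

/-- `Hom(O^I, -)` preserves all colimits, for finite `I`. -/
theorem preservesColimit_sheafHom_free (I : Type u) [Finite I] :
    PreservesColimit D (ModSite.sheafHom (frr O I)) := by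
  classical
  haveI := Fintype.ofFinite I
  have hpq : ∑ i, Hmap O (SheafOfModules.ιFree i) ≫
      Hmap O (Groth.Agent.LD.RSp.proj (ModSite.ringSh O) I i) = 𝟙 (ModSite.sheafHom (frr O I)) := by
    calc ∑ i, Hmap O (SheafOfModules.ιFree i) ≫
          Hmap O (Groth.Agent.LD.RSp.proj (ModSite.ringSh O) I i)
        = ∑ i, Hmap O (Groth.Agent.LD.RSp.proj (ModSite.ringSh O) I i ≫
            SheafOfModules.ιFree i) := by
          refine Finset.sum_congr rfl (fun i _ => ?_)
          rw [Hmap_comp]
      _ = Hmap O (∑ i, Groth.Agent.LD.RSp.proj (ModSite.ringSh O) I i ≫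
            SheafOfModules.ιFree i) := (Hmap_sum O _ _).symm
      _ = 𝟙 _ := by
          rw [Groth.Agent.LD.RSp.sum_proj_ιFree]
          exact Hmap_id O _
  exact @preservesColimit_of_retract_sum _ _ _ _ _ _ _ D I _ (ModSite.sheafHom (frr O I))
    (fun _ : I => ModSite.sheafHom (ModSite.unit O))
    (fun i => Hmap O (SheafOfModules.ιFree i))
    (fun i => Hmap O (Groth.Agent.LD.RSp.proj (ModSite.ringSh O) I i)) hpq
    (fun _ => preservesColimit_sheafHom_unit O D)

end Pres

/-- the internal hom out of a globally finitely presented module commutes with filtered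
colimits. -/
theorem preservesColimit_sheafHom_of_presBy {I' I : Type u} [Finite I'] [Finite I]
    {F : ModSite.Mod O} (h : PresBy I' I F) {Λ : Type u} [SmallCategory Λ] [IsFiltered Λ]
    (D : Λ ⥤ ModSite.Mod O) : PreservesColimit D (ModSite.sheafHom F) := by
  obtain ⟨f, g, hfg⟩ := h
  haveI := Groth.Agent.H1.sheafOfModules_isGrothendieckAbelian J (ModSite.ringSh O)
  haveI : HasExactColimitsOfShape Λ (ModSite.Mod O) := AB5OfSize.ofShape Λ
  haveI := preservesColimit_sheafHom_free O D I
  haveI := preservesColimit_sheafHom_free O D I'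
  exact preservesColimit_of_kernel (Hmap O g) (Hmap O f) (fun X => Hmap_w hfg X)
    (fun X => isLimitHmap hfg X) D

end Groth.Agent.LD.HomFilt
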